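import Mathlib
import Groth.Prelude.Def_Wider
import Groth.Prelude.Def_DDual2
import Groth.Agent.Lib.Helper3.GorBC8
import Groth.Agent.Lib.Helper8.Depth5

/-!
# Vanishing of localized `Ext` from depth (helper5)
-/

set_option autoImplicit false
universe u
open CategoryTheory CategoryTheory.Limits DerivedCategory Pretriangulated Triangulated TensorProduct
  IsLocalRing

attribute [local instance] HasDerivedCategory.standard

namespace Groth.Agent.Lib.Helper5.SmFib

open Groth.Agent.Helper3.BCAbs Groth.Agent.Helper3.BCDer Groth.Agent.Helper3.BCDual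
  Groth.Agent.Helper3.BCDesc Groth.Agent.Helper5.FlatBC Groth.Agent.Helper3.DualCx
  Groth.Agent.Helper3.BCFlat Groth.Agent.Helper3.GorBC

section Van

variable {S : Type u} [CommRing S] [IsNoetherianRing S]

/-- `Ext^j(S/J, S) = 0` for `j < depth_J S` -/
theorem subsingleton_hom_of_le_idealDepth (J : Ideal S) (hJ : J ≠ ⊤) (c : ℕ)
    (hc : (c : ℕ∞) ≤ LocCoh.idealDepth J S) (j : ℤ) (hj : j < c) :
    Subsingleton (Dual.inD S (S ⧸ J) ⟶ (Dual.inD S S)⟦j⟧) := by
  by_cases h0 : j < 0
  · refine ⟨fun f g => ?_⟩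
    let t : TStructure (Dual.D S) := TStructure.t
    haveI : ((Dual.inD S S)⟦j⟧).IsGE (0 - j) :=
      t.isGE_shift (Dual.inD S S) 0 j (0 - j) (by omega)
    have hz : ∀ f : Dual.inD S (S ⧸ J) ⟶ (Dual.inD S S)⟦j⟧, f = 0 := fun f =>
      t.zero_of_isLE_of_isGE f 0 (0 - j) (by omega) inferInstance inferInstance
    rw [hz f, hz g]
  · obtain ⟨k, rfl⟩ : ∃ k : ℕ, j = (k : ℤ) := ⟨j.toNat, by omega⟩
    have hsm : J • (⊤ : Submodule S S) ≠ ⊤ := by
      rw [smul_eq_mul, Ideal.mul_top]; exact hJ
    have h1 := (Groth.Agent.Helper8.Depth.le_idealDepth_iff_ext hsm c).mp hc k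
      (by exact_mod_cast hj)
    exact (Abelian.Ext.homEquiv (X := ModuleCat.of S (S ⧸ J)) (Y := ModuleCat.of S S)
      (n := k)).symm.subsingleton

end Van

section Loc

variable {P : Type u} [CommRing P] [IsNoetherianRing P] (Q : Ideal P) [Q.IsPrime]

/-- if `Ext^j` vanishes after localizing at `Q` then every element of `Ext^j` is killed by an
element outside `Q` -/
theorem exists_smul_eq_zero_of_subsingleton (L : Dual.D P) (hL : Bdd L) (I : Ideal P) (j : ℤ)
    (h : Subsingleton (Dual.inD (Localization.AtPrime Q)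
      (Localization.AtPrime Q ⧸ I.map (algebraMap P (Localization.AtPrime Q))) ⟶
        ((G (A := P) (Localization.AtPrime Q)).obj L)⟦j⟧))
    (f : Dual.inD P (P ⧸ I) ⟶ L⟦j⟧) : ∃ s ∈ Q.primeCompl, s • f = 0 := by
  haveI : Module.Flat P (Localization.AtPrime Q) := IsLocalization.flat _ Q.primeCompl
  have e := extBCEquiv (Localization.AtPrime Q) L hL I j
  haveI : Subsingleton (Localization.AtPrime Q ⊗[P] (Dual.inD P (P ⧸ I) ⟶ L⟦j⟧)) :=
    e.toEquiv.subsingleton
  haveI : IsLocalizedModule Q.primeCompl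
      (TensorProduct.mk P (Localization.AtPrime Q) (Dual.inD P (P ⧸ I) ⟶ L⟦j⟧) 1) :=
    (isLocalizedModule_iff_isBaseChange Q.primeCompl (Localization.AtPrime Q) _).mpr
      (TensorProduct.isBaseChange P _ (Localization.AtPrime Q))
  exact (IsLocalizedModule.subsingleton_iff Q.primeCompl
    (TensorProduct.mk P (Localization.AtPrime Q) (Dual.inD P (P ⧸ I) ⟶ L⟦j⟧) 1)).mp
      inferInstance f

/-- the base change of the ring itself -/
noncomputable def GselfIso (S : Type u) [CommRing S] [Algebra P S] [Module.Flat P S] :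
    (G (A := P) S).obj (Dual.inD P P) ≅ Dual.inD S S :=
  GinDIso S P ≪≫ (DerivedCategory.singleFunctor (ModuleCat.{u} S) 0).mapIso
    ((eqvT S P).symm ≪≫ₗ TensorProduct.AlgebraTensorModule.rid P S S).toModuleIso

/-- every element of `Ext^j_P(P/I, P)` with `j < depth_{I P_Q}(P_Q)` is killed by an element
outside `Q` -/
theorem exists_smul_eq_zero_of_le_idealDepth (I : Ideal P) (hIQ : I ≤ Q) (c : ℕ)
    (hc : (c : ℕ∞) ≤ LocCoh.idealDepth (I.map (algebraMap P (Localization.AtPrime Q)))
      (Localization.AtPrime Q)) (j : ℤ) (hj : j < c)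
    (f : Dual.inD P (P ⧸ I) ⟶ (Dual.inD P P)⟦j⟧) : ∃ s ∈ Q.primeCompl, s • f = 0 := by
  haveI : IsNoetherianRing (Localization.AtPrime Q) :=
    IsLocalization.isNoetherianRing Q.primeCompl _ inferInstance
  have hJ : I.map (algebraMap P (Localization.AtPrime Q)) ≠ ⊤ := by
    intro htop
    have h1 : I.map (algebraMap P (Localization.AtPrime Q)) ≤
        maximalIdeal (Localization.AtPrime Q) := by
      rw [Ideal.map_le_iff_le_comap]
      have h3 : (maximalIdeal (Localization.AtPrime Q)).comap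
          (algebraMap P (Localization.AtPrime Q)) = Q :=
        IsLocalization.AtPrime.under_maximalIdeal (Localization.AtPrime Q) Q
      rw [h3]
      exact hIQ
    rw [htop] at h1
    exact (IsLocalRing.maximalIdeal.isMaximal _).ne_top (top_le_iff.mp h1)
  haveI : Module.Flat P (Localization.AtPrime Q) := IsLocalization.flat _ Q.primeCompl
  haveI h2 := subsingleton_hom_of_le_idealDepth
    (I.map (algebraMap P (Localization.AtPrime Q))) hJ c hc j hj
  refine exists_smul_eq_zero_of_subsingleton Q (Dual.inD P P) (bdd_inD P) I j ?_ f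
  exact (Iso.homCongr (Iso.refl (Dual.inD (Localization.AtPrime Q)
      (Localization.AtPrime Q ⧸ I.map (algebraMap P (Localization.AtPrime Q)))))
    ((shiftFunctor (Dual.D (Localization.AtPrime Q)) j).mapIso
      (GselfIso (Localization.AtPrime Q)))).subsingleton

end Loc

end Groth.Agent.Lib.Helper5.SmFib
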