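import Mathlib
import Groth.Prelude.Def_EGA4b

/-!
# The fibre local rings of a quotient (helper5)

For a surjection `ψ : P → A` of `R`-algebras and a prime `q` of `A` with preimage `Q`, the fibre
local ring of `A` at `q` is the quotient of the fibre local ring of `P` at `Q` by the ideal
generated by `ker ψ`.
-/

set_option autoImplicit false
universe u

namespace Groth.Agent.Lib.Helper5.SmFib

section Ker

variable {P A : Type u} [CommRing P] [CommRing A] (ψ : P →+* A) (hψ : Function.Surjective ψ)
  (q : Ideal A) [q.IsPrime] (Q : Ideal P) [Q.IsPrime] (hQ : Q = q.comap ψ)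

include hψ in
theorem localRingHom_surjective_of_surjective :
    Function.Surjective (Localization.localRingHom Q q ψ hQ) := by
  subst hQ
  exact RingHom.surjective_localRingHom_of_surjective ψ hψ q

include hψ in
/-- the kernel of the localization of a surjection -/
theorem ker_localRingHom_of_surjective :
    RingHom.ker (Localization.localRingHom Q q ψ hQ) =
      (RingHom.ker ψ).map (algebraMap P (Localization.AtPrime Q)) := by
  apply le_antisymm
  · intro x hx
    obtain ⟨p, s, rfl⟩ := IsLocalization.exists_mk'_eq Q.primeCompl x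
    rw [RingHom.mem_ker, Localization.localRingHom_mk', IsLocalization.mk'_eq_zero_iff] at hx
    obtain ⟨⟨u, hu⟩, hup⟩ := hx
    obtain ⟨u', rfl⟩ := hψ u
    rw [IsLocalization.mk'_mem_map_algebraMap_iff]
    refine ⟨u', ?_, ?_⟩
    · intro hmem
      apply hu
      rw [hQ] at hmem
      exact hmem
    · rw [RingHom.mem_ker, map_mul]
      exact hup
  · rw [Ideal.map_le_iff_le_comap]
    intro p hp
    rw [Ideal.mem_comap, RingHom.mem_ker, Localization.localRingHom_to_map,
      (RingHom.mem_ker).mp hp, map_zero]

end Ker

section Fib

variable (R P A : Type u) [CommRing R] [CommRing P] [CommRing A] [Algebra R P] [Algebra R A]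
  (ψ : P →ₐ[R] A) (hψ : Function.Surjective ψ) (q : Ideal A) [q.IsPrime]
  (Q : Ideal P) [Q.IsPrime] (hQ : Q = q.comap ψ.toRingHom)

include hψ hQ in
/-- the fibre local ring of a quotient is the quotient of the fibre local ring -/
theorem nonempty_fibLocRing_quotient_equiv :
    Nonempty ((EGA4.FibLocRing R P Q ⧸
        ((RingHom.ker ψ.toRingHom).map (algebraMap P (Localization.AtPrime Q))).map
          (Ideal.Quotient.mk ((Q.comap (algebraMap R P)).map
            (algebraMap R (Localization.AtPrime Q))))) ≃+* EGA4.FibLocRing R A q) := by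
  let φ : Localization.AtPrime Q →+* Localization.AtPrime q :=
    Localization.localRingHom Q q ψ.toRingHom hQ
  have hφ : Function.Surjective φ :=
    localRingHom_surjective_of_surjective ψ.toRingHom hψ q Q hQ
  have hker : RingHom.ker φ =
      (RingHom.ker ψ.toRingHom).map (algebraMap P (Localization.AtPrime Q)) :=
    ker_localRingHom_of_surjective ψ.toRingHom hψ q Q hQ
  have hcomp : φ.comp (algebraMap R (Localization.AtPrime Q)) =
      algebraMap R (Localization.AtPrime q) := by
    ext x
    rw [RingHom.comp_apply, IsScalarTower.algebraMap_apply R P (Localization.AtPrime Q),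
      Localization.localRingHom_to_map, IsScalarTower.algebraMap_apply R A (Localization.AtPrime q)]
    congr 1
    exact ψ.commutes x
  have hr : Q.comap (algebraMap R P) = q.comap (algebraMap R A) := by
    rw [hQ, Ideal.comap_comap]
    congr 1
    ext x
    exact ψ.commutes x
  set rP : Ideal (Localization.AtPrime Q) :=
    (Q.comap (algebraMap R P)).map (algebraMap R (Localization.AtPrime Q)) with hrP
  set rA : Ideal (Localization.AtPrime q) :=
    (q.comap (algebraMap R A)).map (algebraMap R (Localization.AtPrime q)) with hrA
  have hmap : rP.map φ = rA := by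
    rw [hrP, hrA, Ideal.map_map, hcomp, hr]
  have hle : rP ≤ rA.comap φ := by
    rw [← Ideal.map_le_iff_le_comap, hmap]
  let g : EGA4.FibLocRing R P Q →+* EGA4.FibLocRing R A q := Ideal.quotientMap rA φ hle
  have hg : Function.Surjective g := Ideal.quotientMap_surjective hφ
  have hkerg : RingHom.ker g =
      ((RingHom.ker ψ.toRingHom).map (algebraMap P (Localization.AtPrime Q))).map
        (Ideal.Quotient.mk rP) := by
    apply le_antisymm
    · intro x hx
      obtain ⟨x, rfl⟩ := Ideal.Quotient.mk_surjective x
      rw [RingHom.mem_ker, Ideal.quotientMap_mk, Ideal.Quotient.eq_zero_iff_mem, ← hmap,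
        Ideal.mem_map_iff_of_surjective φ hφ] at hx
      obtain ⟨y, hy, hyx⟩ := hx
      have h1 : x - y ∈ RingHom.ker φ := by
        rw [RingHom.mem_ker, map_sub, hyx, sub_self]
      have h2 : Ideal.Quotient.mk rP x = Ideal.Quotient.mk rP (x - y) := by
        rw [map_sub, Ideal.Quotient.eq_zero_iff_mem.mpr hy, sub_zero]
      rw [h2]
      exact Ideal.mem_map_of_mem _ (hker ▸ h1)
    · rw [Ideal.map_le_iff_le_comap, ← hker]
      intro x hx
      rw [Ideal.mem_comap, RingHom.mem_ker, Ideal.quotientMap_mk, (RingHom.mem_ker).mp hx,
        map_zero]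
  exact ⟨(Ideal.quotEquivOfEq hkerg.symm).trans (RingHom.quotientKerEquivOfSurjective hg)⟩

end Fib

end Groth.Agent.Lib.Helper5.SmFib
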