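import Mathlib
import Groth.Prelude.Def_Flat
import Groth.Prelude.Def_FlatCA
import Groth.Agent.Lib.Helper2.Sch.SmoothRelDim2

/-!
# The fibre rings of a ring map smooth of relative dimension `n` have local dimension `n` (helper5)
-/

set_option autoImplicit false
universe u
open CategoryTheory AlgebraicGeometry TopologicalSpace

namespace Groth.Agent.Lib.Helper5.SmFib

/-- local dimension is invariant under open embeddings (as in helper4's `Chev2`) -/
theorem localDim_openEmbedding {α β : Type*} [TopologicalSpace α] [TopologicalSpace β]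
    (j : α → β) (hj : Topology.IsOpenEmbedding j) (a : α) :
    FlatMor.localDim α a = FlatMor.localDim β (j a) := by
  unfold FlatMor.localDim
  apply le_antisymm
  · refine le_iInf fun W => ?_
    let W' : Opens α := ⟨j ⁻¹' W.1.1, W.1.2.preimage hj.continuous⟩
    have hmem : a ∈ W' := W.2
    refine (iInf_le _ (⟨W', hmem⟩ : {W : Opens α // a ∈ W})).trans ?_
    let g : ↥(W' : Set α) → ↥(W.1 : Set β) := fun x => ⟨j x.1, x.2⟩
    have hg : Topology.IsInducing g := by
      have h1 : Topology.IsInducing (Subtype.val ∘ g) :=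
        hj.isInducing.comp Topology.IsInducing.subtypeVal
      exact Topology.IsInducing.of_comp (hj.continuous.comp continuous_subtype_val |>.subtype_mk _)
        continuous_subtype_val h1
    exact hg.topologicalKrullDim_le
  · refine le_iInf fun W' => ?_
    let W : Opens β := ⟨j '' W'.1.1, hj.isOpenMap _ W'.1.2⟩
    have hmem : j a ∈ W := ⟨a, W'.2, rfl⟩
    refine (iInf_le _ (⟨W, hmem⟩ : {W : Opens β // j a ∈ W})).trans ?_
    let g : ↥(W'.1 : Set α) → ↥(W : Set β) := fun x => ⟨j x.1, ⟨x.1, x.2, rfl⟩⟩
    have hgi : Topology.IsInducing g := by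
      have h1 : Topology.IsInducing (Subtype.val ∘ g) :=
        hj.isInducing.comp Topology.IsInducing.subtypeVal
      exact Topology.IsInducing.of_comp (hj.continuous.comp continuous_subtype_val |>.subtype_mk _)
        continuous_subtype_val h1
    have hgb : Function.Bijective g := by
      constructor
      · intro x y h
        exact Subtype.ext (hj.injective (congrArg Subtype.val h))
      · rintro ⟨_, x, hx, rfl⟩
        exact ⟨⟨x, hx⟩, rfl⟩
    have hgh : IsHomeomorph g := by
      rw [isHomeomorph_iff_isEmbedding_surjective]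
      exact ⟨⟨hgi, hgb.1⟩, hgb.2⟩
    exact (IsHomeomorph.topologicalKrullDim_eq g hgh).symm.le

theorem localDim_homeomorph {α β : Type*} [TopologicalSpace α] [TopologicalSpace β]
    (j : α ≃ₜ β) (a : α) :
    FlatMor.localDim α a = FlatMor.localDim β (j a) :=
  localDim_openEmbedding j j.isOpenEmbedding a

variable (A B : Type u) [CommRing A] [CommRing B] [Algebra A B]

/-- the point of the fibre ring over `p` attached to a prime `q` over `p` -/
noncomputable def fibPt (p : Ideal A) [p.IsPrime] (q : Ideal B) [q.IsPrime]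
    (hq : q.comap (algebraMap A B) = p) : PrimeSpectrum (p.Fiber B) :=
  PrimeSpectrum.preimageEquivFiber A B ⟨p, inferInstance⟩
    ⟨⟨q, inferInstance⟩, by
      rw [Set.mem_preimage, Set.mem_singleton_iff]
      exact PrimeSpectrum.ext hq⟩

theorem fibPt_comap (p : Ideal A) [p.IsPrime] (q : Ideal B) [q.IsPrime]
    (hq : q.comap (algebraMap A B) = p) :
    (fibPt A B p q hq).asIdeal.comap
      (Algebra.TensorProduct.includeRight : B →ₐ[A] p.Fiber B) = q := by
  have := (PrimeSpectrum.preimageEquivFiber A B ⟨p, inferInstance⟩).left_inv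
    ⟨⟨q, inferInstance⟩, by
      rw [Set.mem_preimage, Set.mem_singleton_iff]
      exact PrimeSpectrum.ext hq⟩
  exact congrArg (fun y => y.1.asIdeal) this

theorem localDim_fibPt (n : ℕ) (hs : FlatCA.SmoothRelDim n A B) (p : Ideal A) [p.IsPrime]
    (q : Ideal B) [q.IsPrime] (hq : q.comap (algebraMap A B) = p) :
    FlatMor.localDim (PrimeSpectrum (p.Fiber B)) (fibPt A B p q hq) = (n : WithBot ℕ∞) := by
  let f : Spec (CommRingCat.of B) ⟶ Spec (CommRingCat.of A) :=
    Spec.map (CommRingCat.ofHom (algebraMap A B))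
  haveI : SmoothOfRelativeDimension n f := hs
  let x : ↥(Spec (CommRingCat.of B)) := (⟨q, inferInstance⟩ : PrimeSpectrum B)
  have h1 := Groth.Agent.Helper2.SmoothRelDim.S2768_main n f x
  unfold FlatMor.fibreDimAt at h1
  have hfx : f.base x = (⟨p, inferInstance⟩ : PrimeSpectrum A) := PrimeSpectrum.ext hq
  have hset : ((f : ↥(Spec (CommRingCat.of B)) → ↥(Spec (CommRingCat.of A))) ⁻¹' {f x} :
      Set (PrimeSpectrum B)) =
      PrimeSpectrum.comap (algebraMap A B) ⁻¹' {(⟨p, inferInstance⟩ : PrimeSpectrum A)} := by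
    ext y
    simp only [Set.mem_preimage, Set.mem_singleton_iff]
    rw [hfx]
    rfl
  let h : f.fiber (f x) ≃ₜ PrimeSpectrum (p.Fiber B) :=
    (f.fiberHomeo (f x)).trans ((Homeomorph.setCongr hset).trans
      (PrimeSpectrum.preimageHomeomorphFiber A B ⟨p, inferInstance⟩))
  rw [localDim_homeomorph h (f.asFiber x)] at h1
  have hpt : h (f.asFiber x) = fibPt A B p q hq := by
    show PrimeSpectrum.preimageHomeomorphFiber A B ⟨p, inferInstance⟩
      (Homeomorph.setCongr hset (f.fiberHomeo (f x) (f.asFiber x))) = _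
    unfold Scheme.Hom.asFiber
    rw [Homeomorph.apply_symm_apply]
    rfl
  rw [hpt] at h1
  exact h1

end Groth.Agent.Lib.Helper5.SmFib
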