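import Mathlib
import Groth.Agent.Lib.Helper5.SmFib.LocalDim
import Groth.Agent.Lib.Helper4.DimFT2
import Groth.Agent.Lib.Helper8.Fib1

/-!
# The dimension of the fibre local rings of a smooth ring map (helper5)
-/

set_option autoImplicit false
universe u
open CategoryTheory AlgebraicGeometry TopologicalSpace TensorProduct

namespace Groth.Agent.Lib.Helper5.SmFib

section General

variable (k C K : Type u) [Field k] [CommRing C] [Algebra k C] [Field K] [Algebra k K]

/-- the residue field at the kernel of a map to a field generated by the image has the same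
transcendence degree -/
theorem trdeg_residueField_ker (ψ : C →ₐ[k] K)
    (hfrac : ∀ z : K, ∃ x y : C, z = ψ x / ψ y) (Q : Ideal C) [Q.IsPrime]
    (hQ : Q = RingHom.ker ψ.toRingHom) :
    Algebra.trdeg k Q.ResidueField = Algebra.trdeg k K := by
  rw [Groth.Agent.Lib.Helper4.DimFT1.trdeg_fractionRing_eq k (C ⧸ Q) Q.ResidueField]
  have hker : ∀ a ∈ Q, ψ.toRingHom a = 0 := fun a ha => by
    rw [hQ] at ha; exact ha
  letI algQ : Algebra (C ⧸ Q) K := (Ideal.Quotient.lift Q ψ.toRingHom hker).toAlgebra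
  have halg : ∀ c : C, algebraMap (C ⧸ Q) K (Ideal.Quotient.mk Q c) = ψ c := fun c => rfl
  haveI : IsScalarTower k (C ⧸ Q) K := by
    apply IsScalarTower.of_algebraMap_eq
    intro c
    have h1 : algebraMap k (C ⧸ Q) c = Ideal.Quotient.mk Q (algebraMap k C c) := rfl
    rw [h1, halg, AlgHom.commutes]
  haveI : FaithfulSMul (C ⧸ Q) K := by
    rw [faithfulSMul_iff_algebraMap_injective, injective_iff_map_eq_zero]
    intro a ha
    obtain ⟨c, rfl⟩ := Ideal.Quotient.mk_surjective a
    rw [halg] at ha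
    rw [Ideal.Quotient.eq_zero_iff_mem, hQ]
    exact ha
  haveI : IsFractionRing (C ⧸ Q) K := by
    apply IsFractionRing.of_field
    intro z
    obtain ⟨x, y, hxy⟩ := hfrac z
    exact ⟨Ideal.Quotient.mk Q x, Ideal.Quotient.mk Q y, by rw [halg, halg, hxy]⟩
  rw [← Groth.Agent.Lib.Helper4.DimFT1.trdeg_fractionRing_eq k (C ⧸ Q) K]

theorem localDim_eq_dim_add_trdeg [Algebra.FiniteType k C] (ψ : C →ₐ[k] K)
    (hfrac : ∀ z : K, ∃ x y : C, z = ψ x / ψ y) (Q : Ideal C) [Q.IsPrime]
    (hQ : Q = RingHom.ker ψ.toRingHom) (t : ℕ) (ht : Algebra.trdeg k K = (t : Cardinal.{u})) :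
    FlatMor.localDim (PrimeSpectrum C) ⟨Q, inferInstance⟩ =
      ringKrullDim (Localization.AtPrime Q) + (t : WithBot ℕ∞) :=
  Groth.Agent.Lib.Helper4.DimFT2.S2141_main Q t
    ((trdeg_residueField_ker k C K ψ hfrac Q hQ).trans ht)

end General

variable (A B : Type u) [CommRing A] [CommRing B] [Algebra A B]
  (p : Ideal A) [p.IsPrime] (q : Ideal B) [q.IsPrime] (hq : q.comap (algebraMap A B) = p)

/-- the structure map `κ(p) ⊗ B → κ(q)` -/
noncomputable def psi : p.Fiber B →ₐ[A] q.ResidueField :=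
  Algebra.TensorProduct.lift (Ideal.ResidueField.mapₐ p q (Algebra.ofId A B) hq.symm)
    (IsScalarTower.toAlgHom A B q.ResidueField) (fun _ _ => .all _ _)

theorem fibPt_asIdeal :
    (fibPt A B p q hq).asIdeal = RingHom.ker (psi A B p q hq).toRingHom := rfl

theorem psi_tmul (c : p.ResidueField) (b : B) :
    psi A B p q hq (c ⊗ₜ[A] b) =
      Ideal.ResidueField.mapₐ p q (Algebra.ofId A B) hq.symm c * algebraMap B q.ResidueField b := by
  unfold psi
  rw [Algebra.TensorProduct.lift_tmul]
  rfl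

/-- the dimension formula for the fibre ring at the point attached to `q` -/
theorem localDim_fibPt_eq [Algebra.FiniteType A B] (t : ℕ)
    (ht : @Algebra.trdeg p.ResidueField q.ResidueField _ _
      (Ideal.ResidueField.mapₐ p q (Algebra.ofId A B) hq.symm).toRingHom.toAlgebra =
        (t : Cardinal.{u})) :
    FlatMor.localDim (PrimeSpectrum (p.Fiber B)) (fibPt A B p q hq) =
      ringKrullDim (Localization.AtPrime (fibPt A B p q hq).asIdeal) + (t : WithBot ℕ∞) := by
  letI algκ : Algebra p.ResidueField q.ResidueField :=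
    (Ideal.ResidueField.mapₐ p q (Algebra.ofId A B) hq.symm).toRingHom.toAlgebra
  let ψk : p.Fiber B →ₐ[p.ResidueField] q.ResidueField :=
    { (psi A B p q hq).toRingHom with
      commutes' := fun c => by
        show psi A B p q hq (c ⊗ₜ[A] (1 : B)) = _
        rw [psi_tmul, map_one, mul_one]
        rfl }
  have hψk : ∀ c, ψk c = psi A B p q hq c := fun c => rfl
  haveI := (fibPt A B p q hq).isPrime
  refine localDim_eq_dim_add_trdeg p.ResidueField (p.Fiber B) q.ResidueField ψk ?_
    (fibPt A B p q hq).asIdeal rfl t ht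
  intro z
  obtain ⟨x, y, -, hxy⟩ := IsFractionRing.div_surjective (A := B ⧸ q) z
  obtain ⟨b, rfl⟩ := Ideal.Quotient.mk_surjective x
  obtain ⟨s, rfl⟩ := Ideal.Quotient.mk_surjective y
  refine ⟨(1 : p.ResidueField) ⊗ₜ[A] b, (1 : p.ResidueField) ⊗ₜ[A] s, ?_⟩
  rw [hψk, hψk, psi_tmul, psi_tmul, map_one, one_mul, one_mul, ← hxy]
  rfl

end Groth.Agent.Lib.Helper5.SmFib
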