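import Mathlib
import Groth.Agent.Lib.Helper5.SmFib.Trdeg

/-!
# The dimension of the fibre local rings of a smooth ring map, final form (helper5)
-/

set_option autoImplicit false
universe u
open CategoryTheory AlgebraicGeometry TopologicalSpace TensorProduct

namespace Groth.Agent.Lib.Helper5.SmFib

variable (A B : Type u) [CommRing A] [CommRing B] [Algebra A B]

theorem smooth_of_smoothRelDim (n : ℕ) (hs : FlatCA.SmoothRelDim n A B) : Algebra.Smooth A B := by
  haveI : SmoothOfRelativeDimension n (Spec.map (CommRingCat.ofHom (algebraMap A B))) := hs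
  have h1 : Smooth (Spec.map (CommRingCat.ofHom (algebraMap A B))) :=
    SmoothOfRelativeDimension.smooth n _
  have h2 := (HasRingHomProperty.Spec_iff (P := @Smooth)).mp h1
  exact RingHom.smooth_algebraMap.mp h2

variable (p : Ideal A) [p.IsPrime] (q : Ideal B) [q.IsPrime] (hq : q.comap (algebraMap A B) = p)

/-- the fibre local ring at `q` of a map smooth of relative dimension `n` has dimension
`n - trdeg κ(q)/κ(p)` -/
theorem dim_fibLocRing (n : ℕ) (hs : FlatCA.SmoothRelDim n A B) (t : ℕ)
    (ht : @Algebra.trdeg p.ResidueField q.ResidueField _ _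
      (Ideal.ResidueField.mapₐ p q (Algebra.ofId A B) hq.symm).toRingHom.toAlgebra =
        (t : Cardinal.{u})) :
    t ≤ n ∧ ringKrullDim (EGA4.FibLocRing A B q) = ((n - t : ℕ) : WithBot ℕ∞) := by
  haveI := smooth_of_smoothRelDim A B n hs
  haveI : Algebra.FiniteType A B := inferInstance
  haveI := (fibPt A B p q hq).isPrime
  have h1 := localDim_fibPt A B n hs p q hq
  have h2 := localDim_fibPt_eq A B p q hq t ht
  obtain ⟨e⟩ := Groth.Agent.Helper8.Fib.nonempty_ringEquiv_fibLocRing p (fibPt A B p q hq).asIdeal q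
    (fibPt_comap A B p q hq)
  rw [← ringKrullDim_eq_of_ringEquiv e]
  rw [h1] at h2
  generalize ringKrullDim (Localization.AtPrime (fibPt A B p q hq).asIdeal) = D at h2 ⊢
  induction D using WithBot.recBotCoe with
  | bot => simp at h2
  | coe D =>
    induction D using ENat.recTopCoe with
    | top =>
      exfalso
      have : ((⊤ : ℕ∞) : WithBot ℕ∞) + (t : WithBot ℕ∞) = ((⊤ : ℕ∞) : WithBot ℕ∞) := by
        rfl
      rw [this] at h2
      have h5 : ((n : ℕ∞) : WithBot ℕ∞) = ((⊤ : ℕ∞) : WithBot ℕ∞) := h2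
      exact ENat.natCast_ne_top n (WithBot.coe_injective h5)
    | coe m =>
      have h3 : ((n : ℕ∞) : WithBot ℕ∞) = (((m + t : ℕ) : ℕ∞) : WithBot ℕ∞) := by
        rw [show ((n : ℕ∞) : WithBot ℕ∞) = (n : WithBot ℕ∞) from rfl, h2]
        push_cast
        rfl
      have h4 : n = m + t := by exact_mod_cast h3
      subst h4
      refine ⟨Nat.le_add_left _ _, ?_⟩
      rw [Nat.add_sub_cancel]
      rfl

end Groth.Agent.Lib.Helper5.SmFib
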