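import Mathlib
import Groth.Agent.Lib.Helper3.GorBC8
import Groth.Agent.Lib.Helper5.SmFib.Dim
import Groth.Agent.Lib.Helper8.Goren4
import Groth.Agent.Lib.Helper8.FlatReg2
import Groth.Agent.Lib.Helper8.Depth15

/-!
# Regular sequences in the localization of a smooth algebra, from the fibre (helper5)

Let `A → B` be smooth of relative dimension `n` with `A` Noetherian, `q` a prime of `B` over `p`,
`I ⊆ q` an ideal, `F = B_q / p B_q` the fibre local ring.  If `dim F / I F = e` and
`trdeg κ(q)/κ(p) = t` then `depth_{I B_q}(B_q) ≥ n - t - e`.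
-/

set_option autoImplicit false
universe u
open CategoryTheory AlgebraicGeometry TopologicalSpace TensorProduct IsLocalRing
open RingTheory.Sequence LocCoh

namespace Groth.Agent.Lib.Helper5.SmFib

theorem exists_list_lift {S T : Type*} [CommRing S] [CommRing T] (g : S →+* T)
    (hg : Function.Surjective g) (J : Ideal S) (rs : List T) (h : ∀ r ∈ rs, r ∈ J.map g) :
    ∃ fs : List S, fs.map g = rs ∧ ∀ f ∈ fs, f ∈ J := by
  induction rs with
  | nil => exact ⟨[], rfl, fun f hf => by simp at hf⟩
  | cons r rs ih =>
    obtain ⟨fs, hfs, hmem⟩ := ih (fun x hx => h x (List.mem_cons_of_mem _ hx))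
    obtain ⟨f, hf, hfr⟩ := (Ideal.mem_map_iff_of_surjective g hg).mp (h r List.mem_cons_self)
    refine ⟨f :: fs, by rw [List.map_cons, hfr, hfs], fun x hx => ?_⟩
    rcases List.mem_cons.mp hx with rfl | hx
    · exact hf
    · exact hmem x hx

section

variable (A B : Type u) [CommRing A] [CommRing B] [Algebra A B] [IsNoetherianRing A]
  (p : Ideal A) [p.IsPrime] (q : Ideal B) [q.IsPrime] (hq : q.comap (algebraMap A B) = p)

theorem le_idealDepth_of_fibre (n : ℕ) (hs : FlatCA.SmoothRelDim n A B) (t : ℕ)
    (ht : @Algebra.trdeg p.ResidueField q.ResidueField _ _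
      (Ideal.ResidueField.mapₐ p q (Algebra.ofId A B) hq.symm).toRingHom.toAlgebra =
        (t : Cardinal.{u})) (I : Ideal B) (e : ℕ)
    (he : ringKrullDim (EGA4.FibLocRing A B q ⧸
        (I.map (algebraMap B (Localization.AtPrime q))).map
          (Ideal.Quotient.mk ((q.comap (algebraMap A B)).map
            (algebraMap A (Localization.AtPrime q))))) = (e : WithBot ℕ∞)) :
    ((n - t - e : ℕ) : ℕ∞) ≤
      idealDepth (I.map (algebraMap B (Localization.AtPrime q))) (Localization.AtPrime q) := by
  haveI hsm := smooth_of_smoothRelDim A B n hs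
  haveI : Algebra.FiniteType A B := inferInstance
  haveI : IsNoetherianRing B := Algebra.FiniteType.isNoetherianRing A B
  haveI : Module.Flat A B := inferInstance
  haveI : IsNoetherianRing (Localization.AtPrime q) :=
    IsLocalization.isNoetherianRing q.primeCompl _ inferInstance
  obtain ⟨htn, hdimF⟩ := dim_fibLocRing A B p q hq n hs t ht
  haveI hG : IsGorensteinLocalRing (EGA4.FibLocRing A B q) :=
    Groth.Agent.Helper3.GorBC.fibLocRing_of_formallySmooth A B q
  haveI hCM : IsCohenMacaulayLocalRing (EGA4.FibLocRing A B q) :=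
    Groth.Agent.Helper8.Goren.isCohenMacaulayLocalRing_of_isGorensteinLocalRing _
  set rB : Ideal (Localization.AtPrime q) :=
    (q.comap (algebraMap A B)).map (algebraMap A (Localization.AtPrime q)) with hrB
  set J : Ideal (Localization.AtPrime q) := I.map (algebraMap B (Localization.AtPrime q)) with hJ
  set Ibar : Ideal (EGA4.FibLocRing A B q) := J.map (Ideal.Quotient.mk rB) with hIbar
  have hIbar_ne : Ibar ≠ ⊤ := by
    intro htop
    haveI : Subsingleton (EGA4.FibLocRing A B q ⧸ Ibar) :=
      Ideal.Quotient.subsingleton_iff.mpr htop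
    rw [ringKrullDim_eq_bot_of_subsingleton] at he
    exact WithBot.bot_ne_coe he
  have hCMmod : IsCohenMacaulayModule (EGA4.FibLocRing A B q) (EGA4.FibLocRing A B q) :=
    IsCohenMacaulayLocalRing.supportDim_eq_depth
  have h1 := Groth.Agent.Helper8.Depth.cm_supportDim_eq_add_idealDepth Ibar hIbar_ne
    (EGA4.FibLocRing A B q) hCMmod
  rw [Module.supportDim_self_eq_ringKrullDim,
    Groth.Agent.Helper8.Depth.supportDim_quot_smul_top_self, hdimF, he] at h1
  -- the depth of the fibre
  have hdepth : ((n - t - e : ℕ) : ℕ∞) ≤ idealDepth Ibar (EGA4.FibLocRing A B q) := by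
    generalize idealDepth Ibar (EGA4.FibLocRing A B q) = x at h1
    induction x using ENat.recTopCoe with
    | top => exact le_top
    | coe m =>
      have h2 : (((n - t : ℕ) : ℕ∞) : WithBot ℕ∞) = (((e + m : ℕ) : ℕ∞) : WithBot ℕ∞) := by
        rw [show (((n - t : ℕ) : ℕ∞) : WithBot ℕ∞) = ((n - t : ℕ) : WithBot ℕ∞) from rfl, h1]
        push_cast
        rfl
      have h3 : n - t = e + m := by exact_mod_cast h2
      have h4 : n - t - e = m := by omega
      rw [h4]
  have hsmul : Ibar • (⊤ : Submodule (EGA4.FibLocRing A B q) (EGA4.FibLocRing A B q)) ≠ ⊤ := by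
    rw [smul_eq_mul, Ideal.mul_top]
    exact hIbar_ne
  obtain ⟨rs, hlen, hreg, hmem⟩ :=
    (Groth.Agent.Helper8.Depth.le_idealDepth_iff hsmul (n - t - e)).mp hdepth
  obtain ⟨fs, hfs, hfsmem⟩ := exists_list_lift (Ideal.Quotient.mk rB)
    Ideal.Quotient.mk_surjective J rs hmem
  -- the sequence is regular on the fibre as a `B_q`-module
  have hreg1 : IsWeaklyRegular (EGA4.FibLocRing A B q) fs := by
    rw [← isWeaklyRegular_map_algebraMap_iff (EGA4.FibLocRing A B q)]
    have : fs.map (algebraMap (Localization.AtPrime q) (EGA4.FibLocRing A B q)) = rs := hfs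
    rw [this]
    exact hreg
  -- the local flat map `A_p → B_q`
  haveI hlo : q.LiesOver p := ⟨hq.symm⟩
  letI algApBq := Localization.AtPrime.algebraOfLiesOver p q
  haveI : Module.Flat A (Localization.AtPrime p) := IsLocalization.flat _ p.primeCompl
  haveI : Module.Flat B (Localization.AtPrime q) := IsLocalization.flat _ q.primeCompl
  haveI : Module.Flat A (Localization.AtPrime q) := Module.Flat.trans A B (Localization.AtPrime q)
  haveI : Module.Flat (Localization.AtPrime p) (Localization.AtPrime q) := inferInstance
  haveI hloc : IsLocalHom (algebraMap (Localization.AtPrime p) (Localization.AtPrime q)) := by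
    rw [RingHom.algebraMap_toAlgebra]
    exact Localization.isLocalHom_localRingHom _ q (algebraMap A B) Ideal.LiesOver.over
  have hmax : (maximalIdeal (Localization.AtPrime p)).map
      (algebraMap (Localization.AtPrime p) (Localization.AtPrime q)) = rB := by
    rw [← Localization.AtPrime.map_eq_maximalIdeal (I := p), Ideal.map_map,
      ← IsScalarTower.algebraMap_eq A (Localization.AtPrime p) (Localization.AtPrime q), hrB, hq]
  have hsub : ((maximalIdeal (Localization.AtPrime p)).map
      (algebraMap (Localization.AtPrime p) (Localization.AtPrime q)) •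
        (⊤ : Submodule (Localization.AtPrime q) (Localization.AtPrime q))) = rB := by
    rw [smul_eq_mul, Ideal.mul_top, hmax]
  have hreg2 : IsWeaklyRegular (Localization.AtPrime q ⧸
      ((maximalIdeal (Localization.AtPrime p)).map
        (algebraMap (Localization.AtPrime p) (Localization.AtPrime q)) •
        (⊤ : Submodule (Localization.AtPrime q) (Localization.AtPrime q)))) fs :=
    ((Submodule.quotEquivOfEq _ _ hsub).isWeaklyRegular_congr fs).mpr hreg1
  have hreg3 := (Groth.Agent.Helper8.FlatReg.isWeaklyRegular_and_flat_of_fibre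
    (A := Localization.AtPrime p) (B := Localization.AtPrime q) fs
    (Localization.AtPrime q) hreg2).1
  have h5 := Groth.Agent.Helper8.Depth.length_le_idealDepth (I := J) hreg3 hfsmem
  have hlen' : fs.length = n - t - e := by
    rw [← hlen, ← hfs, List.length_map]
  rw [hlen'] at h5
  exact h5

end

end Groth.Agent.Lib.Helper5.SmFib
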