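import Mathlib
import Groth.Agent.Lib.Helper5.SmFib.Dim
import Groth.Agent.Lib.Helper5.Grass.PolySmooth

/-!
# Fibre dimension and the dimension of fibre local rings, without smoothness (helper5)
-/

set_option autoImplicit false
universe u
open CategoryTheory AlgebraicGeometry TopologicalSpace TensorProduct

namespace Groth.Agent.Lib.Helper5.SmFib

variable (A B : Type u) [CommRing A] [CommRing B] [Algebra A B]
  (p : Ideal A) [p.IsPrime] (q : Ideal B) [q.IsPrime] (hq : q.comap (algebraMap A B) = p)

/-- the local dimension of the scheme-theoretic fibre is the local dimension of the fibre ring -/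
theorem fibreDimAt_eq_localDim_fibPt :
    FlatMor.fibreDimAt (Spec.map (CommRingCat.ofHom (algebraMap A B)))
      (⟨q, inferInstance⟩ : PrimeSpectrum B) =
    FlatMor.localDim (PrimeSpectrum (p.Fiber B)) (fibPt A B p q hq) := by
  let f : Spec (CommRingCat.of B) ⟶ Spec (CommRingCat.of A) :=
    Spec.map (CommRingCat.ofHom (algebraMap A B))
  let x : ↥(Spec (CommRingCat.of B)) := (⟨q, inferInstance⟩ : PrimeSpectrum B)
  show FlatMor.localDim (f.fiber (f.base x)) (f.asFiber x) = _
  have hfx : f.base x = (⟨p, inferInstance⟩ : PrimeSpectrum A) := PrimeSpectrum.ext hq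
  have hset : ((f : ↥(Spec (CommRingCat.of B)) → ↥(Spec (CommRingCat.of A))) ⁻¹' {f x} :
      Set (PrimeSpectrum B)) =
      PrimeSpectrum.comap (algebraMap A B) ⁻¹' {(⟨p, inferInstance⟩ : PrimeSpectrum A)} := by
    ext y
    simp only [Set.mem_preimage, Set.mem_singleton_iff]
    rw [hfx]
    rfl
  let h : f.fiber (f x) ≃ₜ PrimeSpectrum (p.Fiber B) :=
    (f.fiberHomeo (f x)).trans ((Homeomorph.setCongr hset).trans
      (PrimeSpectrum.preimageHomeomorphFiber A B ⟨p, inferInstance⟩))
  rw [localDim_homeomorph h (f.asFiber x)]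
  have hpt : h (f.asFiber x) = fibPt A B p q hq := by
    show PrimeSpectrum.preimageHomeomorphFiber A B ⟨p, inferInstance⟩
      (Homeomorph.setCongr hset (f.fiberHomeo (f x) (f.asFiber x))) = _
    unfold Scheme.Hom.asFiber
    rw [Homeomorph.apply_symm_apply]
    rfl
  rw [hpt]

/-- the dimension of the fibre local ring through the local dimension of the fibre -/
theorem dim_fibLocRing_of_fibreDimAt [Algebra.FiniteType A B] (d : ℕ)
    (hd : FlatMor.fibreDimAt (Spec.map (CommRingCat.ofHom (algebraMap A B)))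
      (⟨q, inferInstance⟩ : PrimeSpectrum B) = (d : WithBot ℕ∞)) (t : ℕ)
    (ht : @Algebra.trdeg p.ResidueField q.ResidueField _ _
      (Ideal.ResidueField.mapₐ p q (Algebra.ofId A B) hq.symm).toRingHom.toAlgebra =
        (t : Cardinal.{u})) :
    t ≤ d ∧ ringKrullDim (EGA4.FibLocRing A B q) = ((d - t : ℕ) : WithBot ℕ∞) := by
  haveI := (fibPt A B p q hq).isPrime
  have h1 : FlatMor.localDim (PrimeSpectrum (p.Fiber B)) (fibPt A B p q hq) = (d : WithBot ℕ∞) := by
    rw [← fibreDimAt_eq_localDim_fibPt A B p q hq, hd]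
  have h2 := localDim_fibPt_eq A B p q hq t ht
  obtain ⟨e⟩ := Groth.Agent.Helper8.Fib.nonempty_ringEquiv_fibLocRing p (fibPt A B p q hq).asIdeal q
    (fibPt_comap A B p q hq)
  rw [← ringKrullDim_eq_of_ringEquiv e]
  rw [h1] at h2
  generalize ringKrullDim (Localization.AtPrime (fibPt A B p q hq).asIdeal) = D at h2 ⊢
  induction D using WithBot.recBotCoe with
  | bot => simp at h2
  | coe D =>
    induction D using ENat.recTopCoe with
    | top =>
      exfalso
      have : ((⊤ : ℕ∞) : WithBot ℕ∞) + (t : WithBot ℕ∞) = ((⊤ : ℕ∞) : WithBot ℕ∞) := by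
        rfl
      rw [this] at h2
      have h5 : ((d : ℕ∞) : WithBot ℕ∞) = ((⊤ : ℕ∞) : WithBot ℕ∞) := h2
      exact ENat.natCast_ne_top d (WithBot.coe_injective h5)
    | coe m =>
      have h3 : ((d : ℕ∞) : WithBot ℕ∞) = (((m + t : ℕ) : ℕ∞) : WithBot ℕ∞) := by
        rw [show ((d : ℕ∞) : WithBot ℕ∞) = (d : WithBot ℕ∞) from rfl, h2]
        push_cast
        rfl
      have h4 : d = m + t := by exact_mod_cast h3
      subst h4
      refine ⟨Nat.le_add_left _ _, ?_⟩
      rw [Nat.add_sub_cancel]
      rfl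

/-- the polynomial ring is smooth of relative dimension `n` -/
theorem smoothRelDim_mvPolynomial (R : Type u) [CommRing R] (n : ℕ) :
    FlatCA.SmoothRelDim n R (MvPolynomial (Fin n) R) := by
  show SmoothOfRelativeDimension n (Spec.map (CommRingCat.ofHom (algebraMap R (MvPolynomial (Fin n) R))))
  rw [HasRingHomProperty.Spec_iff (P := @SmoothOfRelativeDimension n)]
  apply RingHom.locally_of RingHom.isStandardSmoothOfRelativeDimension_respectsIso
  show (algebraMap R (MvPolynomial (Fin n) R)).IsStandardSmoothOfRelativeDimension n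
  rw [RingHom.isStandardSmoothOfRelativeDimension_algebraMap]
  have h := Groth.Agent.Lib.Helper5.Grass.PolySmooth.isStandardSmoothOfRelativeDimension_mvPolynomial
    R (Fin n)
  rwa [Nat.card_fin] at h

end Groth.Agent.Lib.Helper5.SmFib
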