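import Mathlib
import Groth.Agent.Lib.Helper5.SmFib.FibDim

/-!
# Transcendence degrees of residue field extensions: finiteness and invariance under surjections
(helper5)
-/

set_option autoImplicit false
universe u
open CategoryTheory AlgebraicGeometry TopologicalSpace TensorProduct

namespace Groth.Agent.Lib.Helper5.SmFib

section General

variable (k C K : Type u) [Field k] [CommRing C] [Algebra k C] [Field K] [Algebra k K]

theorem exists_trdeg_nat_of_field [Algebra.FiniteType k C] (ψ : C →ₐ[k] K)
    (hfrac : ∀ z : K, ∃ x y : C, z = ψ x / ψ y) :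
    ∃ t : ℕ, Algebra.trdeg k K = (t : Cardinal.{u}) := by
  let Q : Ideal C := RingHom.ker ψ.toRingHom
  haveI : Q.IsPrime := RingHom.ker_isPrime ψ.toRingHom
  have h1 := trdeg_residueField_ker k C K ψ hfrac Q rfl
  rw [← h1, Groth.Agent.Lib.Helper4.DimFT1.trdeg_fractionRing_eq k (C ⧸ Q) Q.ResidueField]
  haveI : Algebra.FiniteType k (C ⧸ Q) :=
    Algebra.FiniteType.of_surjective (Ideal.Quotient.mkₐ k _)
      (Ideal.Quotient.mkₐ_surjective k _)
  obtain ⟨n, hn, -⟩ := Groth.Agent.Lib.Helper4.DimFT1.exists_dim_eq_trdeg k (C ⧸ Q)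
  exact ⟨n, hn⟩

end General

section Nat

variable (A B : Type u) [CommRing A] [CommRing B] [Algebra A B]
  (p : Ideal A) [p.IsPrime] (q : Ideal B) [q.IsPrime] (hq : q.comap (algebraMap A B) = p)

/-- the residue field extension of a finite type algebra has finite transcendence degree -/
theorem exists_trdeg_nat [Algebra.FiniteType A B] :
    ∃ t : ℕ, @Algebra.trdeg p.ResidueField q.ResidueField _ _
      (Ideal.ResidueField.mapₐ p q (Algebra.ofId A B) hq.symm).toRingHom.toAlgebra =
        (t : Cardinal.{u}) := by
  letI algκ : Algebra p.ResidueField q.ResidueField :=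
    (Ideal.ResidueField.mapₐ p q (Algebra.ofId A B) hq.symm).toRingHom.toAlgebra
  let ψk : p.Fiber B →ₐ[p.ResidueField] q.ResidueField :=
    { (psi A B p q hq).toRingHom with
      commutes' := fun c => by
        show psi A B p q hq (c ⊗ₜ[A] (1 : B)) = _
        rw [psi_tmul, map_one, mul_one]
        rfl }
  have hψk : ∀ c, ψk c = psi A B p q hq c := fun c => rfl
  have hfrac : ∀ z : q.ResidueField, ∃ x y : p.Fiber B, z = ψk x / ψk y := by
    intro z
    obtain ⟨x, y, -, hxy⟩ := IsFractionRing.div_surjective (A := B ⧸ q) z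
    obtain ⟨b, rfl⟩ := Ideal.Quotient.mk_surjective x
    obtain ⟨s, rfl⟩ := Ideal.Quotient.mk_surjective y
    refine ⟨(1 : p.ResidueField) ⊗ₜ[A] b, (1 : p.ResidueField) ⊗ₜ[A] s, ?_⟩
    rw [hψk, hψk, psi_tmul, psi_tmul, map_one, one_mul, one_mul, ← hxy]
    rfl
  exact exists_trdeg_nat_of_field p.ResidueField (p.Fiber B) q.ResidueField ψk hfrac

end Nat

section Surj

variable (R P A : Type u) [CommRing R] [CommRing P] [CommRing A] [Algebra R P] [Algebra R A]
  (ψ : P →ₐ[R] A) (hψ : Function.Surjective ψ) (q : Ideal A) [q.IsPrime]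
  (r : Ideal R) [r.IsPrime] (hr : q.comap (algebraMap R A) = r)

include hψ in
/-- a surjection does not change the transcendence degree of the residue field extension -/
theorem trdeg_comap_of_surjective (Q : Ideal P) [Q.IsPrime] (hQ : Q = q.comap ψ.toRingHom)
    (hQr : Q.comap (algebraMap R P) = r) :
    @Algebra.trdeg r.ResidueField Q.ResidueField _ _
      (Ideal.ResidueField.mapₐ r Q (Algebra.ofId R P) hQr.symm).toRingHom.toAlgebra =
    @Algebra.trdeg r.ResidueField q.ResidueField _ _
      (Ideal.ResidueField.mapₐ r q (Algebra.ofId R A) hr.symm).toRingHom.toAlgebra := by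
  letI algQ : Algebra r.ResidueField Q.ResidueField :=
    (Ideal.ResidueField.mapₐ r Q (Algebra.ofId R P) hQr.symm).toRingHom.toAlgebra
  letI algq : Algebra r.ResidueField q.ResidueField :=
    (Ideal.ResidueField.mapₐ r q (Algebra.ofId R A) hr.symm).toRingHom.toAlgebra
  let φ : Q.ResidueField →+* q.ResidueField := Ideal.ResidueField.map Q q ψ.toRingHom hQ
  have hφ : Function.Bijective φ :=
    (RingHom.surjectiveOnStalks_of_surjective hψ).residueFieldMap_bijective Q q hQ
  have hcompat : ∀ c : r.ResidueField, φ (algebraMap r.ResidueField Q.ResidueField c) =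
      algebraMap r.ResidueField q.ResidueField c := by
    have h1 : (φ.comp (algebraMap r.ResidueField Q.ResidueField)) =
        algebraMap r.ResidueField q.ResidueField := by
      apply IsLocalization.ringHom_ext (nonZeroDivisors (R ⧸ r))
      apply Ideal.Quotient.ringHom_ext
      ext x
      simp only [RingHom.comp_apply]
      have e1 : algebraMap (R ⧸ r) r.ResidueField (Ideal.Quotient.mk r x) =
          algebraMap R r.ResidueField x := rfl
      rw [e1]
      show φ (Ideal.ResidueField.map r Q _ _ (algebraMap R r.ResidueField x)) =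
        Ideal.ResidueField.map r q _ _ (algebraMap R r.ResidueField x)
      rw [Ideal.ResidueField.map_algebraMap, Ideal.ResidueField.map_algebraMap,
        Ideal.ResidueField.map_algebraMap]
      congr 1
      exact ψ.commutes x
    intro c
    exact congrArg (fun f => f c) h1
  let e : Q.ResidueField ≃ₐ[r.ResidueField] q.ResidueField :=
    { RingEquiv.ofBijective φ hφ with commutes' := hcompat }
  exact e.trdeg_eq

end Surj

end Groth.Agent.Lib.Helper5.SmFib
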