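import Mathlib
import Groth.Prelude.Def_Wider
import Groth.Prelude.Def_DDual2
import Groth.Prelude.Def_DualSh
import Groth.Agent.Lib.Helper3.FinCoh
import Groth.Agent.Lib.Helper5.SmFib.TrdegNat
import Groth.Agent.Lib.Helper5.SmFib.LocQuot
import Groth.Agent.Lib.Helper5.SmFib.RegLift
import Groth.Agent.Lib.Helper5.SmFib.ExtLoc

/-!
# Vanishing of the cohomology of `φ^! R` below minus the fibre dimension (helper5)
-/

set_option autoImplicit false
universe u
open CategoryTheory CategoryTheory.Limits DerivedCategory Pretriangulated Triangulated TensorProduct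
  IsLocalRing AlgebraicGeometry

attribute [local instance] HasDerivedCategory.standard

namespace Groth.Agent.Lib.Helper5.SmFib

open Groth.Agent.Helper3.BCAbs Groth.Agent.Helper3.BCDer Groth.Agent.Helper3.BCDual
  Groth.Agent.Helper3.BCDesc Groth.Agent.Helper5.FlatBC Groth.Agent.Helper3.DualCx
  Groth.Agent.Helper3.BCFlat Groth.Agent.Helper3.GorBC Groth.Agent.Helper3.FinAdj

theorem main_S1785 (R A : Type u) [CommRing R] [CommRing A] [IsNoetherianRing R]
    [IsNoetherianRing A] [Algebra R A] (n : ℕ) (ψ : MvPolynomial (Fin n) R →ₐ[R] A)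
    (hψ : Function.Surjective ψ) [DRing.HasLBaseChange (algebraMap R (MvPolynomial (Fin n) R))]
    (Rψ : Dual.D (MvPolynomial (Fin n) R) ⥤ Dual.D A) (adj : DRing.restrictD ψ.toRingHom ⊣ Rψ)
    (q : PrimeSpectrum A) (d : ℕ)
    (hd : FlatMor.fibreDimAt (AlgebraicGeometry.Spec.map (CommRingCat.ofHom (algebraMap R A))) q = d)
    (i : ℤ)
    (h : Nontrivial (LocalizedModule q.asIdeal.primeCompl
      (Dual.HD A (Dual2.shriekVia n Rψ (Dual.inD R R)) i))) : -(d : ℤ) ≤ i := by
  by_contra hlt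
  push Not at hlt
  rw [← not_subsingleton_iff_nontrivial] at h
  apply h
  -- setup
  letI algPA : Algebra (MvPolynomial (Fin n) R) A := ψ.toRingHom.toAlgebra
  haveI : Module.Finite (MvPolynomial (Fin n) R) A :=
    Module.Finite.of_surjective (Algebra.linearMap (MvPolynomial (Fin n) R) A) hψ
  haveI : IsScalarTower R (MvPolynomial (Fin n) R) A :=
    IsScalarTower.of_algebraMap_eq (fun x => (ψ.commutes x).symm)
  haveI : Algebra.FiniteType R A := Algebra.FiniteType.of_surjective ψ hψ
  set P := MvPolynomial (Fin n) R with hP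
  let qi : Ideal A := q.asIdeal
  let Q : Ideal P := qi.comap ψ.toRingHom
  haveI : Q.IsPrime := Ideal.comap_isPrime _ _
  let r : Ideal R := qi.comap (algebraMap R A)
  haveI : r.IsPrime := Ideal.comap_isPrime _ _
  have hQr : Q.comap (algebraMap R P) = r := by
    show (qi.comap ψ.toRingHom).comap (algebraMap R P) = _
    rw [Ideal.comap_comap]
    congr 1
    ext x
    exact ψ.commutes x
  obtain ⟨t, ht⟩ := exists_trdeg_nat R A r qi rfl
  have htQ := trdeg_comap_of_surjective R P A ψ hψ qi r rfl Q rfl hQr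
  rw [ht] at htQ
  obtain ⟨htd, hdimG⟩ := dim_fibLocRing_of_fibreDimAt R A r qi rfl d hd t ht
  obtain ⟨eFG⟩ := nonempty_fibLocRing_quotient_equiv R P A ψ hψ qi Q rfl
  have he : ringKrullDim (EGA4.FibLocRing R P Q ⧸
      ((RingHom.ker ψ.toRingHom).map (algebraMap P (Localization.AtPrime Q))).map
        (Ideal.Quotient.mk ((Q.comap (algebraMap R P)).map
          (algebraMap R (Localization.AtPrime Q))))) = ((d - t : ℕ) : WithBot ℕ∞) := by
    rw [ringKrullDim_eq_of_ringEquiv eFG]
    exact hdimG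
  have hdepth := le_idealDepth_of_fibre R P r Q hQr n (smoothRelDim_mvPolynomial R n) t htQ
    (RingHom.ker ψ.toRingHom) (d - t) he
  set I : Ideal P := RingHom.ker ψ.toRingHom with hI
  have hIQ : I ≤ Q := by
    intro x hx
    show ψ.toRingHom x ∈ qi
    rw [(RingHom.mem_ker).mp hx]
    exact zero_mem _
  set j : ℤ := (n : ℤ) + i with hj
  have hjc : j < ((n - t - (d - t) : ℕ) : ℤ) := by omega
  rw [LocalizedModule.subsingleton_iff]
  intro x
  -- the chain of identifications
  let X : Dual.D P := (DRing.LBaseChange (algebraMap R P)).obj (Dual.inD R R)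
  let eX : X ≅ Dual.inD P P := (lbcIsoG (A := R) P).app (Dual.inD R R) ≪≫ GselfIso (P := R) P
  let hsh : Dual.HD A (Rψ.obj X) j ≃ₗ[A] Dual.HD A (Dual2.shriekVia n Rψ (Dual.inD R R)) i :=
    (((DerivedCategory.homologyFunctor (ModuleCat.{u} A) 0).shiftIso (n : ℤ) i j
      rfl).app (Rψ.obj X)).symm.toLinearEquiv
  let un := Groth.Agent.Helper3.HomUnit.unitEquiv (Rψ.obj X) j
  let g : Dual.inD A A ⟶ (Rψ.obj X)⟦j⟧ := un.symm (hsh.symm x)
  have hx : x = hsh (un g) := by
    simp only [g, LinearEquiv.apply_symm_apply]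
  let f : Dual.inD P A ⟶ X⟦j⟧ := extT (A := P) (B := A) adj A X j g
  have hker : LinearMap.ker (Algebra.linearMap P A) = I := by
    ext y
    rfl
  let eA : (P ⧸ I) ≃ₗ[P] A :=
    (Submodule.quotEquivOfEq _ _ hker.symm) ≪≫ₗ
      LinearMap.quotKerEquivOfSurjective (Algebra.linearMap P A) hψ
  let isoA : Dual.inD P (P ⧸ I) ≅ Dual.inD P A :=
    (DerivedCategory.singleFunctor (ModuleCat.{u} P) 0).mapIso eA.toModuleIso
  let f' : Dual.inD P (P ⧸ I) ⟶ (Dual.inD P P)⟦j⟧ :=
    isoA.hom ≫ f ≫ (shiftFunctor (Dual.D P) j).map eX.hom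
  obtain ⟨s, hs, hsf⟩ := exists_smul_eq_zero_of_le_idealDepth Q I hIQ _ hdepth j hjc f'
  have hsf2 : s • f = 0 := by
    have h1 : s • f' = isoA.hom ≫ (s • f) ≫ (shiftFunctor (Dual.D P) j).map eX.hom := by
      simp only [f', Linear.smul_comp, Linear.comp_smul]
    rw [h1] at hsf
    have h2 : (s • f) ≫ (shiftFunctor (Dual.D P) j).map eX.hom = 0 :=
      (cancel_epi isoA.hom).mp (hsf.trans comp_zero.symm)
    exact (cancel_mono ((shiftFunctor (Dual.D P) j).map eX.hom)).mp (h2.trans zero_comp.symm)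
  have hg : (algebraMap P A s) • g = 0 := by
    have h3 := extT_smul (A := P) (B := A) adj A X j s g
    rw [show extT (A := P) (B := A) adj A X j g = f from rfl, hsf2] at h3
    exact (AddEquiv.map_eq_zero_iff _).mp h3
  refine ⟨algebraMap P A s, hs, ?_⟩
  rw [hx, ← map_smul, ← map_smul, hg, map_zero, map_zero]

end Groth.Agent.Lib.Helper5.SmFib
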