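import Mathlib
import Groth.Prelude.Def_EGA4b

/-!
# The fibre local ring of the local map `A_p → B_q` (helper5)
-/

set_option autoImplicit false
universe u
open IsLocalRing

namespace Groth.Agent.Lib.Helper5.SmFib

variable (A B : Type u) [CommRing A] [CommRing B] [Algebra A B]
  (p : Ideal A) [p.IsPrime] (q : Ideal B) [q.IsPrime] [hq : q.LiesOver p]

/-- the fibre local ring of `A_p → B_q` at the closed point is the fibre local ring of `A → B`
at `q` -/
theorem nonempty_fibLocRing_equiv :
    letI := Localization.AtPrime.algebraOfLiesOver p q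
    Nonempty (EGA4.FibLocRing (Localization.AtPrime p) (Localization.AtPrime q)
      (maximalIdeal (Localization.AtPrime q)) ≃+* EGA4.FibLocRing A B q) := by
  letI := Localization.AtPrime.algebraOfLiesOver p q
  set Ap := Localization.AtPrime p
  set Bq := Localization.AtPrime q
  set m := maximalIdeal Bq
  have hunits : ∀ x ∈ m.primeCompl, IsUnit x := fun x hx => by
    by_contra h
    exact hx ((mem_maximalIdeal x).2 h)
  let e₀ : Bq ≃+* Localization.AtPrime m :=
    (IsLocalization.atUnits Bq m.primeCompl hunits).toRingEquiv
  have he₀ : (e₀ : Bq →+* Localization.AtPrime m) = algebraMap Bq (Localization.AtPrime m) := by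
    ext x
    exact (IsLocalization.atUnits Bq m.primeCompl hunits).commutes x
  have hloc : IsLocalHom (algebraMap Ap Bq) := by
    rw [RingHom.algebraMap_toAlgebra]
    exact Localization.isLocalHom_localRingHom _ q (algebraMap A B) Ideal.LiesOver.over
  have hcomap : m.comap (algebraMap Ap Bq) = p.map (algebraMap A Ap) := by
    rw [Localization.AtPrime.map_eq_maximalIdeal]
    exact ((local_hom_TFAE (algebraMap Ap Bq)).out 0 4).mp hloc
  have hpq : q.comap (algebraMap A B) = p := hq.over.symm
  have hIJ : (m.comap (algebraMap Ap Bq)).map (algebraMap Ap (Localization.AtPrime m)) =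
      ((q.comap (algebraMap A B)).map (algebraMap A Bq)).map (e₀ : Bq →+* Localization.AtPrime m) := by
    rw [hcomap, hpq, he₀, Ideal.map_map, Ideal.map_map]
    congr 1
    ext a
    simp only [RingHom.comp_apply]
    rw [IsScalarTower.algebraMap_apply Ap Bq (Localization.AtPrime m),
      ← IsScalarTower.algebraMap_apply A Ap Bq]
  exact ⟨(Ideal.quotientEquiv _ _ e₀ hIJ).symm⟩

end Groth.Agent.Lib.Helper5.SmFib
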