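import Mathlib
import Groth.Prelude.Def_Wider
import Groth.Prelude.Def_DDual2
import Groth.Agent.Lib.Helper3.GorBC8
import Groth.Agent.Lib.Helper5.SmFib.Dim
import Groth.Agent.Lib.Helper5.SmFib.LocFib

/-!
# The codimension function of a dualizing complex under smooth base change (helper5)
-/

set_option autoImplicit false
universe u
open CategoryTheory CategoryTheory.Limits DerivedCategory Pretriangulated TensorProduct IsLocalRing

attribute [local instance] HasDerivedCategory.standard

namespace Groth.Agent.Lib.Helper5.SmFib

open Groth.Agent.Helper3.BCAbs Groth.Agent.Helper3.BCDer Groth.Agent.Helper3.BCDual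
  Groth.Agent.Helper3.BCDesc Groth.Agent.Helper5.FlatBC Groth.Agent.Helper3.DualCx
  Groth.Agent.Helper3.BCFlat Groth.Agent.Helper3.GorBC

section Comp

universe v₁ v₂ v₃ u₁ u₂ u₃ w₁ w₂ w₃

variable {C₁ : Type u₁} [Category.{v₁} C₁] [Abelian C₁] [HasDerivedCategory.{w₁} C₁]
  {C₂ : Type u₂} [Category.{v₂} C₂] [Abelian C₂] [HasDerivedCategory.{w₂} C₂]
  {C₃ : Type u₃} [Category.{v₃} C₃] [Abelian C₃] [HasDerivedCategory.{w₃} C₃]

/-- composing two exact functors on the derived categories -/
noncomputable def compIso3 (F : C₁ ⥤ C₂) (G : C₂ ⥤ C₃) (H : C₁ ⥤ C₃) [F.Additive] [G.Additive]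
    [H.Additive] [PreservesFiniteLimits F] [PreservesFiniteColimits F]
    [PreservesFiniteLimits G] [PreservesFiniteColimits G]
    [PreservesFiniteLimits H] [PreservesFiniteColimits H] (θ : F ⋙ G ≅ H) :
    F.mapDerivedCategory ⋙ G.mapDerivedCategory ≅ H.mapDerivedCategory := by
  let e : Q ⋙ (F.mapDerivedCategory ⋙ G.mapDerivedCategory) ≅ Q ⋙ H.mapDerivedCategory :=
    (Functor.associator _ _ _).symm ≪≫
      Functor.isoWhiskerRight F.mapDerivedCategoryFactors G.mapDerivedCategory ≪≫
      Functor.associator _ _ _ ≪≫
      Functor.isoWhiskerLeft (F.mapHomologicalComplex (ComplexShape.up ℤ))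
        G.mapDerivedCategoryFactors ≪≫
      (Functor.associator _ _ _).symm ≪≫
      Functor.isoWhiskerRight (Functor.mapHomologicalComplexCompIso θ (ComplexShape.up ℤ)) Q ≪≫
      H.mapDerivedCategoryFactors.symm
  exact Localization.liftNatIso Q (HomologicalComplex.quasiIso C₁ (ComplexShape.up ℤ))
    (Q ⋙ (F.mapDerivedCategory ⋙ G.mapDerivedCategory)) (Q ⋙ H.mapDerivedCategory) _ _ e

end Comp

/-- transitivity of flat base change on derived categories -/
noncomputable def GcompIso (A A' A'' : Type u) [CommRing A] [CommRing A'] [CommRing A'']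
    [Algebra A A'] [Algebra A' A''] [Algebra A A''] [IsScalarTower A A' A''] [Module.Flat A A']
    [Module.Flat A' A''] [Module.Flat A A''] :
    G (A := A) A' ⋙ G (A := A') A'' ≅ G (A := A) A'' :=
  compIso3 (Ef (R := A) A') (Ef (R := A') A'') (Ef (R := A) A'')
    ((ModuleCat.extendScalarsComp (algebraMap A A') (algebraMap A' A'')).symm ≪≫
      eqToIso (congrArg ModuleCat.extendScalars (IsScalarTower.algebraMap_eq A A' A'').symm))

theorem main_S11186 (A B : Type u) [CommRing A] [CommRing B] [Algebra A B] [IsNoetherianRing A]
    (n : ℕ) (hs : FlatCA.SmoothRelDim n A B) (ω : Dual.D A) (hω : Dual.IsDualizing A ω)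
    (p : Ideal A) [p.IsPrime] (q : Ideal B) [q.IsPrime] [hq : q.LiesOver p]
    [DRing.HasLBaseChange (algebraMap A (Localization.AtPrime p))]
    [DRing.HasLBaseChange (algebraMap A (Localization.AtPrime q))] (d : ℤ)
    (hd : Nontrivial (Dual.inD (Localization.AtPrime p) p.ResidueField ⟶
      ((DRing.LBaseChange (algebraMap A (Localization.AtPrime p))).obj ω)⟦d⟧)) (t : ℕ)
    (ht : @Algebra.trdeg p.ResidueField q.ResidueField _ _
      (Ideal.ResidueField.mapₐ p q (Algebra.ofId A B) hq.over).toRingHom.toAlgebra =
        (t : Cardinal.{u})) :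
    Nontrivial (Dual.inD (Localization.AtPrime q) q.ResidueField ⟶
      ((DRing.LBaseChange (algebraMap A (Localization.AtPrime q))).obj ω)⟦(d - (t : ℤ) + (n : ℤ))⟧) := by
  haveI hsm := smooth_of_smoothRelDim A B n hs
  haveI : Algebra.FiniteType A B := inferInstance
  haveI : IsNoetherianRing B := Algebra.FiniteType.isNoetherianRing A B
  haveI : Module.Flat A B := inferInstance
  letI algApBq := Localization.AtPrime.algebraOfLiesOver p q
  haveI : IsNoetherianRing (Localization.AtPrime p) :=
    IsLocalization.isNoetherianRing p.primeCompl _ inferInstance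
  haveI : IsNoetherianRing (Localization.AtPrime q) :=
    IsLocalization.isNoetherianRing q.primeCompl _ inferInstance
  haveI : Module.Flat A (Localization.AtPrime p) := IsLocalization.flat _ p.primeCompl
  haveI : Module.Flat B (Localization.AtPrime q) := IsLocalization.flat _ q.primeCompl
  haveI : Module.Flat A (Localization.AtPrime q) := Module.Flat.trans A B (Localization.AtPrime q)
  haveI : Module.Flat (Localization.AtPrime p) (Localization.AtPrime q) := inferInstance
  haveI : Algebra.FormallySmooth (Localization.AtPrime p) (Localization.AtPrime q) := by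
    haveI : Algebra.FormallySmooth A (Localization.AtPrime q) := inferInstance
    exact Algebra.FormallySmooth.localization_base (R := A) (Rₘ := Localization.AtPrime p)
      (Sₘ := Localization.AtPrime q) p.primeCompl
  -- the localized dualizing complex
  have hω' : Dual.IsDualizing (Localization.AtPrime p)
      ((G (A := A) (Localization.AtPrime p)).obj ω) :=
    isDualizing_G_of_isLocalization (Localization.AtPrime p) p.primeCompl ω hω
  obtain ⟨d', hvan', -⟩ := Groth.Agent.Helper3.DualFun.main_S0364 (Localization.AtPrime p) _ hω'
    (maximalIdeal (Localization.AtPrime p))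
  have hd' : d' = d := by
    by_contra hne
    have h0 := hvan' d (Ne.symm hne)
    haveI h0' : Subsingleton (Dual.inD (Localization.AtPrime p) p.ResidueField ⟶
        ((G (A := A) (Localization.AtPrime p)).obj ω)⟦d⟧) := h0
    let eZ := (lbcIsoG (A := A) (Localization.AtPrime p)).app ω
    haveI : Subsingleton (Dual.inD (Localization.AtPrime p) p.ResidueField ⟶
        ((DRing.LBaseChange (algebraMap A (Localization.AtPrime p))).obj ω)⟦d⟧) :=
      (Iso.homCongr (Iso.refl (Dual.inD (Localization.AtPrime p) p.ResidueField))
        ((shiftFunctor (Dual.D (Localization.AtPrime p)) d).mapIso eZ)).subsingleton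
    exact not_subsingleton _ ‹Subsingleton _›
  subst hd'
  obtain ⟨a, b, hab⟩ := hω'.finite_injective_dimension
  haveI : ((G (A := A) (Localization.AtPrime p)).obj ω).IsGE a := by
    rw [DerivedCategory.isGE_iff]
    intro i hi
    have h1 : Van ((G (A := A) (Localization.AtPrime p)).obj ω) i (Localization.AtPrime p) :=
      hab (Localization.AtPrime p) i (Or.inl hi)
    rw [van_self_iff] at h1
    exact ModuleCat.isZero_of_subsingleton _
  have hG := fibLocRing_of_formallySmooth (Localization.AtPrime p) (Localization.AtPrime q)
    (maximalIdeal (Localization.AtPrime q))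
  obtain ⟨htn, hdimAB⟩ := dim_fibLocRing A B p q hq.over.symm n hs t ht
  obtain ⟨e⟩ := nonempty_fibLocRing_equiv A B p q
  have hn : ringKrullDim (EGA4.FibLocRing (Localization.AtPrime p) (Localization.AtPrime q)
      (maximalIdeal (Localization.AtPrime q))) = ((n - t : ℕ) : WithBot ℕ∞) := by
    rw [ringKrullDim_eq_of_ringEquiv e, hdimAB]
  have hloc : IsLocalHom (algebraMap (Localization.AtPrime p) (Localization.AtPrime q)) := by
    rw [RingHom.algebraMap_toAlgebra]
    exact Localization.isLocalHom_localRingHom _ q (algebraMap A B) Ideal.LiesOver.over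
  have hcomap : (maximalIdeal (Localization.AtPrime q)).comap
      (algebraMap (Localization.AtPrime p) (Localization.AtPrime q)) =
      maximalIdeal (Localization.AtPrime p) :=
    ((local_hom_TFAE (algebraMap (Localization.AtPrime p) (Localization.AtPrime q))).out 0 4).mp hloc
  have hd₀ : ∀ j : ℤ, j ≠ d' → Van ((G (A := A) (Localization.AtPrime p)).obj ω) j
      (Localization.AtPrime p ⧸ (maximalIdeal (Localization.AtPrime q)).comap
        (algebraMap (Localization.AtPrime p) (Localization.AtPrime q))) :=
    fun j hj => van_of_equiv _ j (Submodule.quotEquivOfEq _ _ hcomap.symm) (hvan' j hj)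
  obtain ⟨-, ⟨ε⟩⟩ := ext_residue_of_fibre (Localization.AtPrime q)
    ((G (A := A) (Localization.AtPrime p)).obj ω) hω' a (maximalIdeal (Localization.AtPrime q))
    hG d' hd₀ (n - t) hn
  -- descend from the localization of `B_q` at its maximal ideal
  haveI : IsNoetherianRing (Localization.AtPrime (maximalIdeal (Localization.AtPrime q))) :=
    IsLocalization.isNoetherianRing (maximalIdeal (Localization.AtPrime q)).primeCompl _
      inferInstance
  haveI : Module.Flat (Localization.AtPrime q)
      (Localization.AtPrime (maximalIdeal (Localization.AtPrime q))) :=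
    IsLocalization.flat _ (maximalIdeal (Localization.AtPrime q)).primeCompl
  have hbddK : Bdd ((G (A := Localization.AtPrime p) (Localization.AtPrime q)).obj
      ((G (A := A) (Localization.AtPrime p)).obj ω)) :=
    bdd_G (Localization.AtPrime q) _ (bdd_of_isDualizing hω')
  have hmax : (maximalIdeal (Localization.AtPrime q)).map (algebraMap (Localization.AtPrime q)
      (Localization.AtPrime (maximalIdeal (Localization.AtPrime q)))) =
      maximalIdeal (Localization.AtPrime (maximalIdeal (Localization.AtPrime q))) :=
    Localization.AtPrime.map_eq_maximalIdeal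
  have hnt : Nontrivial (Dual.inD (Localization.AtPrime q)
      (Localization.AtPrime q ⧸ maximalIdeal (Localization.AtPrime q)) ⟶
      ((G (A := Localization.AtPrime p) (Localization.AtPrime q)).obj
        ((G (A := A) (Localization.AtPrime p)).obj ω))⟦d' + ((n - t : ℕ) : ℤ)⟧) := by
    by_contra hcon
    rw [not_nontrivial_iff_subsingleton] at hcon
    have e1 := extBCEquiv (Localization.AtPrime (maximalIdeal (Localization.AtPrime q)))
      ((G (A := Localization.AtPrime p) (Localization.AtPrime q)).obj
        ((G (A := A) (Localization.AtPrime p)).obj ω)) hbddK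
      (maximalIdeal (Localization.AtPrime q)) (d' + ((n - t : ℕ) : ℤ))
    have h3 : Van ((G (A := Localization.AtPrime q)
        (Localization.AtPrime (maximalIdeal (Localization.AtPrime q)))).obj
        ((G (A := Localization.AtPrime p) (Localization.AtPrime q)).obj
          ((G (A := A) (Localization.AtPrime p)).obj ω))) (d' + ((n - t : ℕ) : ℤ))
        (Localization.AtPrime (maximalIdeal (Localization.AtPrime q)) ⧸
          (maximalIdeal (Localization.AtPrime q)).map (algebraMap (Localization.AtPrime q)
            (Localization.AtPrime (maximalIdeal (Localization.AtPrime q))))) :=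
      e1.symm.toEquiv.subsingleton
    have h4 := van_of_equiv _ _ (Submodule.quotEquivOfEq _ _ hmax) h3
    haveI : Subsingleton (Dual.inD (Localization.AtPrime (maximalIdeal (Localization.AtPrime q)))
        (Localization.AtPrime (maximalIdeal (Localization.AtPrime q)) ⧸
          maximalIdeal (Localization.AtPrime (maximalIdeal (Localization.AtPrime q)))) ⟶
        ((G (A := Localization.AtPrime q)
        (Localization.AtPrime (maximalIdeal (Localization.AtPrime q)))).obj
        ((G (A := Localization.AtPrime p) (Localization.AtPrime q)).obj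
          ((G (A := A) (Localization.AtPrime p)).obj ω)))⟦d' + ((n - t : ℕ) : ℤ)⟧) := h4
    haveI : Subsingleton (Localization.AtPrime (maximalIdeal (Localization.AtPrime q)) ⧸
          maximalIdeal (Localization.AtPrime (maximalIdeal (Localization.AtPrime q)))) :=
      ε.symm.toEquiv.subsingleton
    have htop : maximalIdeal (Localization.AtPrime (maximalIdeal (Localization.AtPrime q))) = ⊤ :=
      Ideal.Quotient.subsingleton_iff.1 inferInstance
    exact (IsLocalRing.maximalIdeal.isMaximal _).ne_top htop
  -- identify the objects
  have hj : d' - (t : ℤ) + (n : ℤ) = d' + ((n - t : ℕ) : ℤ) := by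
    rw [Nat.cast_sub htn]; ring
  rw [hj]
  let iso : (G (A := Localization.AtPrime p) (Localization.AtPrime q)).obj
      ((G (A := A) (Localization.AtPrime p)).obj ω) ≅
      (DRing.LBaseChange (algebraMap A (Localization.AtPrime q))).obj ω :=
    (GcompIso A (Localization.AtPrime p) (Localization.AtPrime q)).app ω ≪≫
      ((lbcIsoG (A := A) (Localization.AtPrime q)).app ω).symm
  have hnt' : Nontrivial (Dual.inD (Localization.AtPrime q) q.ResidueField ⟶
      ((G (A := Localization.AtPrime p) (Localization.AtPrime q)).obj
        ((G (A := A) (Localization.AtPrime p)).obj ω))⟦d' + ((n - t : ℕ) : ℤ)⟧) := hnt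
  exact (Iso.homCongr (Iso.refl (Dual.inD (Localization.AtPrime q) q.ResidueField))
    ((shiftFunctor (Dual.D (Localization.AtPrime q)) (d' + ((n - t : ℕ) : ℤ))).mapIso
      iso)).symm.nontrivial

end Groth.Agent.Lib.Helper5.SmFib
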